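import Mathlib.Combinatorics.Enumerative.Bell
import Mathlib.Data.Nat.Choose.Sum
import Mathlib.Data.Nat.Multiplicity
import Mathlib.RingTheory.Ideal.Maps
import Mathlib.RingTheory.Ideal.Quotient.Operations
import Mathlib.Tactic

/-!
# The ideal of elements with divided powers

`natIdeal A`: all `a` such that `n!` divides `a ^ n` for every `n`. It is an ideal, functorial in `A`, contains `p`
if all naturals prime to `p` are invertible, and is the preimage of `p B` under a surjection `A → B` with `B / p`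
reduced whose kernel is contained in it.
-/

set_option autoImplicit false

open Nat

namespace Groth.Agent.ResProp.EF.K930

section ideal

variable {A B : Type*} [CommRing A] [CommRing B]

/-- The elements all of whose powers `a ^ n` are divisible by `n!`. -/
def natIdeal (A : Type*) [CommRing A] : Ideal A where
  carrier := {a | ∀ n : ℕ, (n ! : A) ∣ a ^ n}
  zero_mem' := by
    intro n
    rcases n with _ | n
    · simp
    · simp
  add_mem' := by
    intro a b ha hb n
    rw [add_pow]
    refine Finset.dvd_sum fun i hi => ?_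
    have hi' : i ≤ n := by simpa [Nat.lt_succ_iff] using hi
    obtain ⟨c, hc⟩ := ha i
    obtain ⟨d, hd⟩ := hb (n - i)
    refine ⟨c * d, ?_⟩
    rw [hc, hd]
    have h : (n ! : A) = (n.choose i : A) * i ! * (n - i)! := by
      have := congrArg (Nat.cast (R := A)) (Nat.choose_mul_factorial_mul_factorial hi').symm
      push_cast at this
      exact this
    rw [h]; ring
  smul_mem' := by
    intro c a ha n
    rw [smul_eq_mul, mul_pow]
    exact (ha n).mul_left _

theorem mem_natIdeal {a : A} : a ∈ natIdeal A ↔ ∀ n : ℕ, (n ! : A) ∣ a ^ n := Iff.rfl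

theorem map_mem_natIdeal (f : A →+* B) {a : A} (ha : a ∈ natIdeal A) : f a ∈ natIdeal B := by
  intro n
  have := map_dvd f (ha n)
  simpa using this

theorem natIdeal_le_comap (f : A →+* B) : natIdeal A ≤ (natIdeal B).comap f := fun _ ha =>
  map_mem_natIdeal f ha

/-- A divided power `c = a ^ k / k!` (`k ≥ 1`) of an element of `natIdeal A` is in `natIdeal A`, `A` torsion-free. -/
theorem dpow_mem_natIdeal (hA : ∀ (n : ℕ) (a : A), n ≠ 0 → (n : A) * a = 0 → a = 0) {a c : A}
    (ha : a ∈ natIdeal A) {k : ℕ} (hk : k ≠ 0) (hc : (k ! : A) * c = a ^ k) : c ∈ natIdeal A := by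
  intro n
  obtain ⟨d, hd⟩ := ha (n * k)
  refine ⟨(Nat.uniformBell n k : A) * d, ?_⟩
  have h1 : ((k ! : A) * c) ^ n = ((n * k)! : A) * d := by
    rw [hc, ← pow_mul, mul_comm k n, hd]
  have h2 : ((n * k)! : A) = (Nat.uniformBell n k : A) * (k ! : A) ^ n * (n ! : A) := by
    have := congrArg (Nat.cast (R := A)) (Nat.uniformBell_mul_eq n hk).symm
    push_cast at this
    exact this
  rw [mul_pow, h2] at h1
  have h3 : ((k ! ^ n : ℕ) : A) * (c ^ n - n ! * ((Nat.uniformBell n k : A) * d)) = 0 := by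
    push_cast
    linear_combination h1
  have h4 := hA _ _ (pow_ne_zero n (Nat.factorial_ne_zero k)) h3
  exact sub_eq_zero.1 h4

/-- `n!` divides `p ^ n` as soon as the naturals prime to `p` are invertible. -/
theorem factorial_dvd_prime_pow (p : ℕ) [hp : Fact p.Prime]
    (hu : ∀ m : ℕ, m.Coprime p → IsUnit (m : A)) (n : ℕ) : (n ! : A) ∣ (p : A) ^ n := by
  obtain ⟨m, hm, hcop⟩ : ∃ m : ℕ, n ! = p ^ (padicValNat p n !) * m ∧ m.Coprime p := by
    obtain ⟨e, m, hm, h⟩ := Nat.exists_eq_pow_mul_and_not_dvd (Nat.factorial_ne_zero n) p hp.out.ne_one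
    refine ⟨m, ?_, ?_⟩
    · have : padicValNat p n ! = e := by
        rw [h, padicValNat.mul (pow_ne_zero _ hp.out.ne_zero) (by rintro rfl; simp at hm),
          padicValNat.prime_pow, padicValNat.eq_zero_of_not_dvd hm, add_zero]
      rw [this]; exact h
    · exact (Nat.coprime_comm.1 ((Nat.Prime.coprime_iff_not_dvd hp.out).2 hm))
  have hle : padicValNat p n ! ≤ n := by
    rcases Nat.eq_zero_or_pos n with rfl | hn
    · simp
    · have := sub_one_mul_padicValNat_factorial (p := p) n
      have h1 : 1 ≤ p - 1 := by have := hp.out.two_le; omega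
      nlinarith [Nat.sub_le n ((p.digits n).sum)]
  have h1 : (n ! : A) = (p : A) ^ (padicValNat p n !) * m := by
    rw [← Nat.cast_pow, ← Nat.cast_mul, ← hm]
  rw [h1]
  exact (((hu m hcop).mul_right_dvd).2 (pow_dvd_pow _ hle))

theorem prime_mem_natIdeal (p : ℕ) [Fact p.Prime] (hu : ∀ m : ℕ, m.Coprime p → IsUnit (m : A)) :
    (p : A) ∈ natIdeal A := fun n => factorial_dvd_prime_pow p hu n

theorem span_le_natIdeal (p : ℕ) [Fact p.Prime] (hu : ∀ m : ℕ, m.Coprime p → IsUnit (m : A)) :
    Ideal.span {(p : A)} ≤ natIdeal A := by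
  rw [Ideal.span_le, Set.singleton_subset_iff]
  exact prime_mem_natIdeal p hu

/-- If `B / p` is reduced then `natIdeal B ≤ p B`. -/
theorem natIdeal_le_span (p : ℕ) [hp : Fact p.Prime] (hB : ∀ b : B, (p : B) ∣ b ^ p → (p : B) ∣ b) :
    natIdeal B ≤ Ideal.span {(p : B)} := by
  intro b hb
  rw [Ideal.mem_span_singleton]
  refine hB b (dvd_trans ?_ (hb p))
  exact_mod_cast Nat.cast_dvd_cast (α := B) (Nat.dvd_factorial hp.out.pos le_rfl)

/-- `natIdeal A` is the preimage of `p B` under `π : A → B`, if `B / p` is reduced and `ker π ≤ natIdeal A`. -/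
theorem natIdeal_eq_comap (p : ℕ) [hp : Fact p.Prime] (hu : ∀ m : ℕ, m.Coprime p → IsUnit (m : A))
    (hB : ∀ b : B, (p : B) ∣ b ^ p → (p : B) ∣ b) (π : A →+* B) (hπ : Function.Surjective π)
    (hker : RingHom.ker π ≤ natIdeal A) : natIdeal A = (Ideal.span {(p : B)}).comap π := by
  apply le_antisymm
  · intro a ha
    exact natIdeal_le_span p hB (map_mem_natIdeal π ha)
  · intro a ha
    rw [Ideal.mem_comap, Ideal.mem_span_singleton] at ha
    obtain ⟨b, hb⟩ := ha
    obtain ⟨a', rfl⟩ := hπ b
    have h1 : a - p * a' ∈ RingHom.ker π := by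
      rw [RingHom.mem_ker, map_sub, map_mul, hb, map_natCast, sub_self]
    have h2 := (natIdeal A).add_mem (hker h1)
      ((natIdeal A).mul_mem_right a' (prime_mem_natIdeal p hu))
    simpa using h2

theorem natIdeal_eq_sup (p : ℕ) [hp : Fact p.Prime] (hu : ∀ m : ℕ, m.Coprime p → IsUnit (m : A))
    (hB : ∀ b : B, (p : B) ∣ b ^ p → (p : B) ∣ b) (π : A →+* B) (hπ : Function.Surjective π)
    (hker : RingHom.ker π ≤ natIdeal A) : natIdeal A = Ideal.span {(p : A)} ⊔ RingHom.ker π := by
  apply le_antisymm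
  · intro a ha
    rw [natIdeal_eq_comap p hu hB π hπ hker, Ideal.mem_comap, Ideal.mem_span_singleton] at ha
    obtain ⟨b, hb⟩ := ha
    obtain ⟨a', rfl⟩ := hπ b
    have h1 : a - p * a' ∈ RingHom.ker π := by
      rw [RingHom.mem_ker, map_sub, map_mul, hb, map_natCast, sub_self]
    rw [Submodule.mem_sup]
    exact ⟨p * a', Ideal.mul_mem_right _ _ (Ideal.mem_span_singleton_self _), a - p * a', h1, by ring⟩
  · exact sup_le (span_le_natIdeal p hu) hker

/-- All naturals invertible: `natIdeal A = A`. -/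
theorem natIdeal_eq_top (hu : ∀ m : ℕ, m ≠ 0 → IsUnit (m : A)) : natIdeal A = ⊤ := by
  rw [Ideal.eq_top_iff_one]
  intro n
  exact (hu _ (Nat.factorial_ne_zero n)).dvd

end ideal

end Groth.Agent.ResProp.EF.K930
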