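import Groth.Agent.ResProp.EF.K930.OneStep

/-!
# `HasOneStep`: existence of one step extensions
-/

set_option autoImplicit false
set_option maxSynthPendingDepth 6

universe u

open TensorProduct K458.Coch Groth.Agent.ResProp.EF.Grp Algebra.TensorProduct

namespace Groth.Agent.ResProp.EF.K930

variable {k : Type u} [CommRing k]

theorem ev2_cres {E E' : Gp k} (φ : E.O →ₐc[k] E'.O) (V : GMod E) {B : Type u} [CommRing B] [Algebra k B]
    (g h : E'.O →ₐ[k] B) (z : V.C 2) :
    ev2 (M := V.V) g h (cres φ V 2 z) =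
      ev2 (M := V.V) (g.comp (φ : E.O →ₐ[k] E'.O)) (h.comp (φ : E.O →ₐ[k] E'.O)) z := by
  change (V.V ⊗[k] E.O) ⊗[k] E.O at z
  change ev2 (M := V.V) g h (TensorProduct.map (TensorProduct.map LinearMap.id (φ : E.O →ₐ[k] E'.O).toLinearMap)
    (φ : E.O →ₐ[k] E'.O).toLinearMap z) = _
  induction z using TensorProduct.induction_on with
  | zero => simp
  | tmul y a =>
    induction y using TensorProduct.induction_on with
    | zero => simp
    | tmul m b => simp
    | add x y hx hy => simp only [add_tmul, map_add, hx, hy]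
  | add x y hx hy => simp only [map_add, hx, hy]

variable [IsDomain k] [CharZero k] {E : Gp k} {σ : Type u} [Fintype σ] [DecidableEq σ]
variable (K : Type u) [Field K] [CharZero K] [Algebra k K] [FaithfulSMul k K]
variable (V : GMod E) (b : Module.Basis σ k V.V)
variable (z : V.C 2) (hz : V.d 2 z = 0) (nz : ∀ f : V.V →ₗ[k] k, IsNat (coef2 (k := k) (A := E.O) f z))

theorem coef1_coact_res {E' : Gp k} (φ : E.O →ₐc[k] E'.O) (f : V.V →ₗ[k] k) (v : V.V) :
    coef1 (k := k) f ((V.res φ).co.coact v) =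
      φ (coef1 (k := k) f (HopfRep.Comod.coact (k := k) (A := E.O) v)) := by
  change coef1 (k := k) f (TensorProduct.map LinearMap.id (φ : E.O →ₗ[k] E'.O)
    (HopfRep.Comod.coact (k := k) (A := E.O) v)) = _
  generalize HopfRep.Comod.coact (k := k) (A := E.O) v = w
  induction w using TensorProduct.induction_on with
  | zero => simp
  | tmul v d => simp
  | add x y hx hy => simp only [map_add, hx, hy]

theorem d1_xE (D : ExtData k E.O σ) (ρ' : V.V →ₗ[k] V.V ⊗[k] (EE K D).O)
    (hρ : ∀ i j, coef1 (k := k) (b.coord i) (ρ' (b j)) = iE K D (D.a i j))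
    (w : (V.V ⊗[k] (EE K D).O) ⊗[k] (EE K D).O)
    (hw : ∀ i, coef1 (k := k) (b.coord i) (ev2 (includeLeft : (EE K D).O →ₐ[k] (EE K D).O ⊗[k] (EE K D).O)
      includeRight w) = productMap
        ((includeLeft : (EE K D).O →ₐ[k] (EE K D).O ⊗[k] (EE K D).O).comp (iE K D : E.O →ₐ[k] (EE K D).O))
        ((includeRight : (EE K D).O →ₐ[k] (EE K D).O ⊗[k] (EE K D).O).comp (iE K D : E.O →ₐ[k] (EE K D).O))
        (D.z i)) :
    d1 ρ' (xE K D V b) = w := by
  apply ev2_ext
  rw [ev2_d1]
  apply coef1_ext b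
  intro i
  rw [map_add, map_sub, hw]
  have h0 := coef1_act b ρ' (includeLeft : (EE K D).O →ₐ[k] (EE K D).O ⊗[k] (EE K D).O)
    (ev1 (includeRight : (EE K D).O →ₐ[k] (EE K D).O ⊗[k] (EE K D).O) (xE K D V b)) (b.coord i)
  rw [h0, coef1_ev1, coef1_ev1, coef1_xE, conv_EE, comul_XE]
  have h2 : ∀ j, coef1 (k := k) (b.coord j) (ev1 (includeRight : (EE K D).O →ₐ[k] (EE K D).O ⊗[k] (EE K D).O)
      (xE K D V b)) = includeRight (XE K D j) := fun j => by rw [coef1_ev1, coef1_xE]
  simp_rw [hρ, h2]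
  ring

theorem hx_E (D : ExtData k E.O σ)
    (hDa : ∀ i j, coef1 (k := k) (b.coord i) (HopfRep.Comod.coact (k := k) (A := E.O) (b j)) = D.a i j)
    (hDz : ∀ i, coef2 (k := k) (A := E.O) (b.coord i) z = D.z i) :
    (V.res (iE K D)).d 1 (xE K D V b) = cres (iE K D) V 2 z := by
  refine (hoch_d1 (A := (EE K D).O) (V := (V.res (iE K D)).V) _).trans ?_
  refine d1_xE K V b D _ ?_ _ ?_
  · intro i j
    rw [← hDa]; exact coef1_coact_res V _ _ _
  · intro i
    rw [← hDz]
    have h5 := ev2_cres (iE K D) V (includeLeft : (EE K D).O →ₐ[k] (EE K D).O ⊗[k] (EE K D).O)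
      (includeRight : (EE K D).O →ₐ[k] (EE K D).O ⊗[k] (EE K D).O) z
    have h6 := coef1_ev2 (b.coord i)
      ((includeLeft : (EE K D).O →ₐ[k] (EE K D).O ⊗[k] (EE K D).O).comp (iE K D : E.O →ₐ[k] (EE K D).O))
      ((includeRight : (EE K D).O →ₐ[k] (EE K D).O ⊗[k] (EE K D).O).comp (iE K D : E.O →ₐ[k] (EE K D).O)) z
    rw [← h6, ← h5]

theorem coef1_lTensor {B C : Type u} [CommRing B] [Algebra k B] [CommRing C] [Algebra k C] (f : V.V →ₗ[k] k)
    (h : B →ₐ[k] C) (w : V.V ⊗[k] B) :
    coef1 (k := k) f (h.toLinearMap.lTensor V.V w) = h (coef1 (k := k) f w) := by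
  induction w using TensorProduct.induction_on with
  | zero => simp
  | tmul v d => simp
  | add x y hx hy => simp only [map_add, hx, hy]

theorem tf_of_regular {R : Type u} [CommRing R] (hR : ∀ n : ℕ, n ≠ 0 → IsSMulRegular R (n : ℕ)) : TF R := by
  intro n b hn h
  apply hR n hn
  simpa [nsmul_eq_mul] using h

/-- the one step extension -/
noncomputable def mkStep (hfree : Module.Free k V.V) (hfin : Module.Finite k V.V) (D : ExtData k E.O σ)
    (hDa : ∀ i j, coef1 (k := k) (b.coord i) (HopfRep.Comod.coact (k := k) (A := E.O) (b j)) = D.a i j)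
    (hDz : ∀ i, coef2 (k := k) (A := E.O) (b.coord i) z = D.z i) : OneStep E where
  V := V
  free := hfree
  fin := hfin
  z := z
  hz := hz
  nz := nz
  E' := EE K D
  ι := iE K D
  x := xE K D V b
  hx := hx_E K V b z D hDa hDz
  nx := by
    intro f
    have h : coef1 (k := k) (A := (EE K D).O) f (xE K D V b) ∈ natIdeal (EE K D).O := by
      rw [xE, map_sum]
      refine Ideal.sum_mem _ fun i _ => ?_
      rw [coef1_tmul, Algebra.smul_def]
      exact Ideal.mul_mem_left _ _ (XX_mem K i)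
    exact h
  univ := by
    intro R _ _ hR g y hy
    have hR' := tf_of_regular hR
    obtain ⟨h, h1, h2⟩ := exists_pt K D hR' g (fun i => coef1 (k := k) (b.coord i) y) (fun i => hy _)
    refine ⟨h, ⟨h1, ?_⟩, ?_⟩
    · apply coef1_ext b
      intro i
      exact (coef1_lTensor V _ h (xE K D V b)).trans (by rw [coef1_xE, h2])
    · rintro h' ⟨h3, h4⟩
      apply pt_unique K D hR'
      · rw [h1, h3]
      · intro i
        rw [h2, ← coef1_xE K D V b, ← h4]
        exact (coef1_lTensor V _ h' (xE K D V b)).symm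

/-- EXISTENCE OF ONE STEP EXTENSIONS -/
theorem hasOneStep_of (k : Type u) [CommRing k] [IsDomain k] [CharZero k] (E : Gp k) : HasOneStep E := by
  intro V hfree hfin z hz nz
  classical
  let b := Module.Free.chooseBasis k V.V
  haveI : CharZero (FractionRing k) := charZero_of_injective_algebraMap (IsFractionRing.injective k (FractionRing k))
  exact ⟨mkStep (FractionRing k) V b z hz nz hfree hfin (mkD V b z hz nz) (fun _ _ => rfl) (fun _ => rfl), rfl, rfl⟩

/-- EXISTENCE OF ONE STEP EXTENSIONS, for `k = ℤ_(p)` -/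
theorem hasOneStep (p : ℕ) {k : Type u} [CommRing k] [IsLb p k] (E : Gp k) : HasOneStep E :=
  haveI := IsLb.dom (p := p) (k := k)
  haveI := IsLb.char0 (p := p) (k := k)
  hasOneStep_of k E

end Groth.Agent.ResProp.EF.K930
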