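import Groth.Agent.ResProp.EF.K930.Nat
import Mathlib.Algebra.MvPolynomial.Basic
import Mathlib.LinearAlgebra.Basis.Defs
import Mathlib.LinearAlgebra.FreeModule.Basic
import Mathlib.RingTheory.TensorProduct.Basic
import Mathlib.RingTheory.Flat.Basic

/-!
# Divided power polynomials over a subring `L` of a field `K` of characteristic zero

`PD σ L K`: the polynomials over `K` with coefficients `c_a`, `a! c_a ∈ L`. It is a free `L`-module on the divided
monomials `xd a = x ^ a / a!`, and for a torsion-free `L`-algebra `B` the `L`-algebra maps `PD σ L K → B` are the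
families `σ → natIdeal B`.
-/

set_option autoImplicit false

open Nat

namespace Groth.Agent.ResProp.EF.K930

/-- `a! = ∏ (a i)!`. -/
def fac {σ : Type*} [Fintype σ] (a : σ →₀ ℕ) : ℕ := ∏ i, (a i)!

/-- `∏ choose`. -/
def mch {σ : Type*} [Fintype σ] (a b : σ →₀ ℕ) : ℕ := ∏ i, ((a i) + (b i)).choose (b i)

section fac
variable {σ : Type*} [Fintype σ]

theorem fac_ne_zero (a : σ →₀ ℕ) : fac a ≠ 0 := Finset.prod_ne_zero_iff.2 fun _ _ => Nat.factorial_ne_zero _

theorem fac_zero : fac (0 : σ →₀ ℕ) = 1 := by simp [fac]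

theorem fac_add (a b : σ →₀ ℕ) : fac (a + b) = mch a b * fac a * fac b := by
  unfold fac mch
  rw [← Finset.prod_mul_distrib, ← Finset.prod_mul_distrib]
  exact Finset.prod_congr rfl fun i _ => (Nat.add_choose_mul_factorial_mul_factorial (a i) (b i)).symm

theorem fac_single [DecidableEq σ] (i : σ) (n : ℕ) : fac (Finsupp.single i n) = n ! := by
  unfold fac
  rw [Finset.prod_eq_single i]
  · simp
  · intro j _ hj; simp [hj.symm]
  · simp
end fac

section PD

variable (σ : Type*) [Fintype σ] (L : Type*) [CommRing L] (K : Type*) [Field K] [CharZero K] [Algebra L K]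

open MvPolynomial

/-- Divided power polynomials. -/
def PD : Subalgebra L (MvPolynomial σ K) where
  carrier := {f | ∀ a : σ →₀ ℕ, (fac a : K) * coeff a f ∈ (algebraMap L K).range}
  mul_mem' := by
    intro f g hf hg a
    classical
    rw [coeff_mul, Finset.mul_sum]
    refine Subring.sum_mem _ fun x hx => ?_
    rw [Finset.mem_antidiagonal] at hx
    have h : (fac a : K) * (coeff x.1 f * coeff x.2 g) =
        (mch x.1 x.2 : K) * (((fac x.1 : K) * coeff x.1 f) * ((fac x.2 : K) * coeff x.2 g)) := by
      rw [← hx, fac_add]; push_cast; ring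
    rw [h]
    exact Subring.mul_mem _ (natCast_mem _ _) (Subring.mul_mem _ (hf _) (hg _))
  add_mem' := by
    intro f g hf hg a
    rw [coeff_add, mul_add]
    exact Subring.add_mem _ (hf a) (hg a)
  algebraMap_mem' := by
    intro l a
    classical
    rw [IsScalarTower.algebraMap_apply L K (MvPolynomial σ K), MvPolynomial.algebraMap_eq, coeff_C]
    split_ifs with h
    · subst h; rw [fac_zero]; simp
    · simp

theorem mem_PD {f : MvPolynomial σ K} :
    f ∈ PD σ L K ↔ ∀ a : σ →₀ ℕ, (fac a : K) * coeff a f ∈ (algebraMap L K).range := Iff.rfl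

/-- The divided monomial `x ^ a / a!`. -/
noncomputable def xd (a : σ →₀ ℕ) : PD σ L K :=
  ⟨monomial a ((fac a : K)⁻¹), by
    classical
    intro b
    rw [coeff_monomial]
    split_ifs with h
    · subst h
      rw [mul_inv_cancel₀ (by exact_mod_cast fac_ne_zero a)]
      exact Subring.one_mem _
    · simp⟩

theorem xd_zero : xd σ L K 0 = 1 := by
  apply Subtype.ext
  simp [xd, fac_zero]

theorem xd_mul (a b : σ →₀ ℕ) : xd σ L K a * xd σ L K b = (mch a b : PD σ L K) * xd σ L K (a + b) := by
  apply Subtype.ext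
  have ha : (fac a : K) ≠ 0 := by exact_mod_cast fac_ne_zero a
  have hb : (fac b : K) ≠ 0 := by exact_mod_cast fac_ne_zero b
  have hab : (fac (a + b) : K) ≠ 0 := by exact_mod_cast fac_ne_zero (a + b)
  have h : (fac (a + b) : K) = mch a b * fac a * fac b := by exact_mod_cast fac_add a b
  have hm : (mch a b : K) ≠ 0 := by
    intro h0; rw [h0] at h; simp at h; exact hab (by exact_mod_cast h)
  have e1 : ((mch a b : PD σ L K) : MvPolynomial σ K) = C (mch a b : K) := by simp
  rw [Subalgebra.coe_mul, Subalgebra.coe_mul, e1]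
  simp only [xd]
  rw [monomial_mul, C_mul_monomial, h]
  congr 1
  field_simp

theorem algebraMap_inj [FaithfulSMul L K] : Function.Injective (algebraMap L K) := FaithfulSMul.algebraMap_injective L K

theorem coe_smul_xd (l : L) (a : σ →₀ ℕ) :
    ((l • xd σ L K a : PD σ L K) : MvPolynomial σ K) = monomial a (algebraMap L K l * (fac a : K)⁻¹) := by
  rw [Subalgebra.coe_smul]
  simp only [xd]
  rw [Algebra.smul_def, IsScalarTower.algebraMap_apply L K (MvPolynomial σ K), MvPolynomial.algebraMap_eq,
    C_mul_monomial]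

variable [FaithfulSMul L K] in
theorem xd_li : LinearIndependent L (xd σ L K) := by
  classical
  rw [linearIndependent_iff']
  intro s g hg a ha
  have h1 := congrArg (fun f : PD σ L K => coeff a (f : MvPolynomial σ K)) hg
  simp only [AddSubmonoidClass.coe_finsetSum, coe_smul_xd, coeff_sum, coeff_monomial,
    Finset.sum_ite_eq', ha, if_true, ZeroMemClass.coe_zero, coeff_zero] at h1
  have hf : ((fac a : K)⁻¹) ≠ 0 := inv_ne_zero (by exact_mod_cast fac_ne_zero a)
  have h2 : algebraMap L K (g a) = 0 := by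
    rcases _root_.mul_eq_zero.1 h1 with h | h
    · exact h
    · exact absurd h hf
  exact algebraMap_inj L K (by rw [h2, map_zero])

theorem xd_span : ⊤ ≤ Submodule.span L (Set.range (xd σ L K)) := by
  classical
  rintro ⟨f, hf⟩ -
  have hf' := hf
  choose l hl using hf'
  have : (⟨f, hf⟩ : PD σ L K) = ∑ a ∈ f.support, l a • xd σ L K a := by
    apply Subtype.ext
    rw [AddSubmonoidClass.coe_finsetSum]
    refine (f.as_sum).trans ?_
    refine Finset.sum_congr rfl fun a _ => ?_
    rw [coe_smul_xd, hl a, mul_comm (fac a : K), mul_assoc,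
      mul_inv_cancel₀ (by exact_mod_cast fac_ne_zero a), mul_one]
  rw [this]
  exact Submodule.sum_mem _ fun a _ => Submodule.smul_mem _ _ (Submodule.subset_span ⟨a, rfl⟩)

variable [FaithfulSMul L K]

/-- The basis of divided monomials. -/
noncomputable def xdBasis : Module.Basis (σ →₀ ℕ) L (PD σ L K) :=
  Module.Basis.mk (xd_li σ L K) (xd_span σ L K)

@[simp] theorem xdBasis_apply (a : σ →₀ ℕ) : xdBasis σ L K a = xd σ L K a := by
  rw [xdBasis, Module.Basis.mk_apply]

instance : Module.Free L (PD σ L K) := Module.Free.of_basis (xdBasis σ L K)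

/-- `B` is torsion-free. -/
def TF (B : Type*) [CommRing B] : Prop := ∀ (n : ℕ) (b : B), n ≠ 0 → (n : B) * b = 0 → b = 0

end PD

section dp

variable {B : Type*} [CommRing B]

/-- The divided power `b ^ n / n!` of `b ∈ natIdeal B`. -/
noncomputable def dp (b : natIdeal B) (n : ℕ) : B := (b.2 n).choose

theorem dp_spec (b : natIdeal B) (n : ℕ) : (n ! : B) * dp b n = (b : B) ^ n := (b.2 n).choose_spec.symm

theorem TF.cancel (hB : TF B) {n : ℕ} (hn : n ≠ 0) {b c : B} (h : (n : B) * b = n * c) : b = c := by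
  have := hB n (b - c) hn (by rw [mul_sub, h, sub_self])
  exact sub_eq_zero.1 this

theorem dp_unique (hB : TF B) (b : natIdeal B) (n : ℕ) {c : B} (h : (n ! : B) * c = (b : B) ^ n) : dp b n = c :=
  hB.cancel (Nat.factorial_ne_zero n) (by rw [dp_spec, h])

theorem dp_zero (hB : TF B) (b : natIdeal B) : dp b 0 = 1 := dp_unique hB b 0 (by simp)

theorem dp_one (hB : TF B) (b : natIdeal B) : dp b 1 = b := dp_unique hB b 1 (by simp)

theorem dp_mul (hB : TF B) (b : natIdeal B) (m n : ℕ) :
    dp b m * dp b n = ((m + n).choose n : B) * dp b (m + n) := by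
  refine hB.cancel (mul_ne_zero (Nat.factorial_ne_zero m) (Nat.factorial_ne_zero n)) ?_
  have h := congrArg (Nat.cast (R := B)) (Nat.add_choose_mul_factorial_mul_factorial m n)
  push_cast at h ⊢
  have e1 := dp_spec b m
  have e2 := dp_spec b n
  have e3 := dp_spec b (m + n)
  calc (m ! : B) * n ! * (dp b m * dp b n) = (m ! * dp b m) * (n ! * dp b n) := by ring
    _ = ((m + n)! : B) * dp b (m + n) := by rw [e1, e2, e3, pow_add]
    _ = _ := by rw [← h]; ring

theorem dp_map {C : Type*} [CommRing C] (hC : TF C) (f : B →+* C) (b : natIdeal B) (n : ℕ) :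
    f (dp b n) = dp ⟨f b, map_mem_natIdeal f b.2⟩ n := by
  symm
  refine dp_unique hC _ n ?_
  rw [← map_natCast f, ← map_mul, dp_spec, map_pow]

variable {σ : Type*} [Fintype σ]

/-- `∏ v_i ^ [a_i]`. -/
noncomputable def dpm (v : σ → natIdeal B) (a : σ →₀ ℕ) : B := ∏ i, dp (v i) (a i)

theorem dpm_zero (hB : TF B) (v : σ → natIdeal B) : dpm v 0 = 1 := by
  simp [dpm, dp_zero hB]

theorem dpm_mul (hB : TF B) (v : σ → natIdeal B) (a b : σ →₀ ℕ) :
    dpm v a * dpm v b = (mch a b : B) * dpm v (a + b) := by
  unfold dpm mch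
  rw [← Finset.prod_mul_distrib]
  push_cast
  rw [← Finset.prod_mul_distrib]
  exact Finset.prod_congr rfl fun i _ => dp_mul hB _ _ _

end dp

section lift

variable (σ : Type*) [Fintype σ] (L : Type*) [CommRing L] (K : Type*) [Field K] [CharZero K] [Algebra L K]
  [FaithfulSMul L K]
variable {B : Type*} [CommRing B] [Algebra L B]

/-- The algebra map `PD σ L K → B` given by a family in `natIdeal B`. -/
noncomputable def lift (hB : TF B) (v : σ → natIdeal B) : PD σ L K →ₐ[L] B :=
  AlgHom.ofLinearMap ((xdBasis σ L K).constr L (dpm v))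
    (by
      rw [← xd_zero σ L K, ← xdBasis_apply, Module.Basis.constr_basis, dpm_zero hB])
    (by
      intro x y
      have key : (LinearMap.mul L B).compl₁₂ ((xdBasis σ L K).constr L (dpm v)) ((xdBasis σ L K).constr L (dpm v)) =
          (LinearMap.mul L (PD σ L K)).compr₂ ((xdBasis σ L K).constr L (dpm v)) := by
        refine (xdBasis σ L K).ext fun a => (xdBasis σ L K).ext fun b => ?_
        simp only [LinearMap.compl₁₂_apply, LinearMap.compr₂_apply, LinearMap.mul_apply',
          Module.Basis.constr_basis]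
        rw [dpm_mul hB, xdBasis_apply, xdBasis_apply, xd_mul, ← nsmul_eq_mul, ← nsmul_eq_mul, map_nsmul,
          ← xdBasis_apply, Module.Basis.constr_basis]
      exact (congrFun (congrArg DFunLike.coe (congrFun (congrArg DFunLike.coe key) x)) y).symm)

@[simp] theorem lift_xd (hB : TF B) (v : σ → natIdeal B) (a : σ →₀ ℕ) : lift σ L K hB v (xd σ L K a) = dpm v a := by
  rw [← xdBasis_apply]
  exact (xdBasis σ L K).constr_basis L (dpm v) a

omit [FaithfulSMul L K] in
theorem tf_PD : TF (PD σ L K) := by
  intro n f hn h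
  apply Subtype.ext
  have h1 := congrArg (fun f : PD σ L K => (f : MvPolynomial σ K)) h
  have h2 : ((n : PD σ L K) : MvPolynomial σ K) = MvPolynomial.C (n : K) := by simp
  simp only [Subalgebra.coe_mul, h2, ZeroMemClass.coe_zero] at h1
  ext a
  have h3 := congrArg (MvPolynomial.coeff a) h1
  rw [MvPolynomial.coeff_C_mul, MvPolynomial.coeff_zero] at h3
  rcases _root_.mul_eq_zero.1 h3 with h4 | h4
  · exact absurd h4 (by exact_mod_cast hn)
  · simpa using h4

/-- The generator `x_i`. -/
noncomputable def gen [DecidableEq σ] (i : σ) : PD σ L K := xd σ L K (Finsupp.single i 1)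

omit [FaithfulSMul L K] in
theorem fac_mul_xd [DecidableEq σ] (a : σ →₀ ℕ) :
    (fac a : PD σ L K) * xd σ L K a = ∏ i, gen σ L K i ^ (a i) := by
  classical
  apply Subtype.ext
  have ha : (fac a : K) ≠ 0 := by exact_mod_cast fac_ne_zero a
  have e1 : ((fac a : PD σ L K) : MvPolynomial σ K) = MvPolynomial.C (fac a : K) := by simp
  have e2 : ∀ i : σ, ((gen σ L K i : PD σ L K) : MvPolynomial σ K) = MvPolynomial.X i := by
    intro i
    simp [gen, xd, fac_single, MvPolynomial.X]
  rw [Subalgebra.coe_mul, e1, SubmonoidClass.coe_finsetProd]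
  simp only [SubmonoidClass.coe_pow, e2]
  simp only [xd]
  rw [MvPolynomial.C_mul_monomial, mul_inv_cancel₀ ha, MvPolynomial.monomial_eq, map_one, one_mul,
    Finsupp.prod_fintype _ _ (by simp)]

omit [FaithfulSMul L K] in
theorem gen_mem_natIdeal [DecidableEq σ] (i : σ) : gen σ L K i ∈ natIdeal (PD σ L K) := by
  intro n
  refine ⟨xd σ L K (Finsupp.single i n), ?_⟩
  have h := fac_mul_xd σ L K (Finsupp.single i n)
  rw [fac_single] at h
  rw [h, Finset.prod_eq_single i]
  · simp
  · intro j _ hj; simp [hj.symm]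
  · simp

theorem lift_gen [DecidableEq σ] (hB : TF B) (v : σ → natIdeal B) (i : σ) :
    lift σ L K hB v (gen σ L K i) = v i := by
  rw [gen, lift_xd, dpm, Finset.prod_eq_single i]
  · rw [Finsupp.single_eq_same, dp_one hB]
  · intro j _ hj
    rw [Finsupp.single_eq_of_ne hj, dp_zero hB]
  · simp

theorem hom_ext [DecidableEq σ] (hB : TF B) {f g : PD σ L K →ₐ[L] B}
    (h : ∀ i, f (gen σ L K i) = g (gen σ L K i)) : f = g := by
  have key : f.toLinearMap = g.toLinearMap := by
    refine (xdBasis σ L K).ext fun a => ?_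
    rw [xdBasis_apply, AlgHom.toLinearMap_apply, AlgHom.toLinearMap_apply]
    refine hB.cancel (fac_ne_zero a) ?_
    have e : ∀ f : PD σ L K →ₐ[L] B, (fac a : B) * f (xd σ L K a) = ∏ i, f (gen σ L K i) ^ (a i) := by
      intro f
      have := congrArg f (fac_mul_xd σ L K a)
      rw [map_mul, map_natCast, map_prod] at this
      simpa using this
    rw [e f, e g]
    exact Finset.prod_congr rfl fun i _ => by rw [h i]
  exact AlgHom.toLinearMap_injective key

end lift

end Groth.Agent.ResProp.EF.K930
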