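import Groth.Agent.ResProp.EF.K458.CochPt
import Groth.Agent.ResProp.EF.Grp

/-!
# The differentials of the Prelude in degrees 1, 2 are `K458.Coch.d1`, `d2`
-/

set_option autoImplicit false
set_option maxSynthPendingDepth 6

universe u

open TensorProduct K458.Coch

namespace Groth.Agent.ResProp.EF.K930

section Bridge

variable {k : Type u} [CommRing k] {A : Type u} [CommRing A] [Bialgebra k A] {V : Type u} [AddCommGroup V] [Module k V]
  [HopfRep.Comod k A V]

theorem tail_eq (M : Type u) [AddCommGroup M] [Module k M] (w : M ⊗[k] A) :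
    Hoch.tail k A M w = dlt k A M w - w ⊗ₜ[k] (1 : A) - ((TensorProduct.mk k M A).flip 1).rTensor A w := by
  induction w using TensorProduct.induction_on with
  | zero => simp
  | tmul m a =>
    rw [Hoch.tail_tmul, dlt_tmul, tmul_sub, tmul_sub, map_sub, map_sub]
    simp
  | add x y hx hy => rw [map_add, map_add, map_add, hx, hy, add_tmul]; abel

theorem hoch_d1 (y : V ⊗[k] A) : (Hoch.d k A V 1 y : (V ⊗[k] A) ⊗[k] A) =
    d1 (HopfRep.Comod.coact (k := k) (A := A) (V := V)) y := by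
  have h : (Hoch.d k A V 1 y : (V ⊗[k] A) ⊗[k] A) =
      (Hoch.d k A V 0).rTensor A y + ((-1 : k) ^ 1) • Hoch.tail k A V y := rfl
  rw [h, tail_eq, Hoch.d_zero, LinearMap.rTensor_sub, d1_apply]
  simp only [pow_one, neg_smul, one_smul, LinearMap.sub_apply]
  abel

theorem hoch_d2 (z : (V ⊗[k] A) ⊗[k] A) : (Hoch.d k A V 2 z : ((V ⊗[k] A) ⊗[k] A) ⊗[k] A) =
    d2 (HopfRep.Comod.coact (k := k) (A := A) (V := V)) z := by
  have h : (Hoch.d k A V 2 z : ((V ⊗[k] A) ⊗[k] A) ⊗[k] A) =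
      (Hoch.d k A V 1).rTensor A z + ((-1 : k) ^ 2) • Hoch.tail k A (V ⊗[k] A) z := rfl
  have h1 : (Hoch.d k A V 1 : V ⊗[k] A →ₗ[k] (V ⊗[k] A) ⊗[k] A) =
    d1 (HopfRep.Comod.coact (k := k) (A := A) (V := V)) := LinearMap.ext hoch_d1
  rw [h, tail_eq]
  have h2 : (Hoch.d k A V 1).rTensor A z = (d1 (HopfRep.Comod.coact (k := k) (A := A) (V := V))).rTensor A z := by
    rw [← h1]
  rw [h2, d1, d2_apply, LinearMap.rTensor_add, LinearMap.rTensor_sub]
  simp only [even_two, Even.neg_pow, one_pow, one_smul, LinearMap.sub_apply, LinearMap.add_apply]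
  rw [show (un k A (V ⊗[k] A)) = (TensorProduct.mk k (V ⊗[k] A) A).flip 1 from rfl]
  abel

end Bridge

end Groth.Agent.ResProp.EF.K930
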