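import Groth.Agent.ResProp.EF.K930.PD
import Mathlib.RingTheory.HopfAlgebra.Convolution
import Mathlib.RingTheory.HopfAlgebra.Basic
import Mathlib.RingTheory.TensorProduct.Free
import Mathlib.RingTheory.TensorProduct.Maps
import Mathlib.LinearAlgebra.FreeModule.Basic

/-!
# The divided power extension of a group by a matrix representation and a 2-cocycle

`O` a commutative Hopf algebra over `k`, free over the domain `k` of characteristic `0`; `a i j` matrix coefficients,
`z i` the coordinates of a 2-cocycle in `natIdeal (O ⊗ O)`. Then `O ⊗ PD σ` has a Hopf algebra structure with group law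
`(g, y) (h, w) = (g h, y + a(g) w - z(g, h))`.
-/

set_option autoImplicit false
set_option maxSynthPendingDepth 6

universe u

open TensorProduct Algebra.TensorProduct

namespace Groth.Agent.ResProp.EF.K930

section tf

variable {k : Type u} [CommRing k] [IsDomain k] [CharZero k]

theorem tf_of_free (B : Type u) [CommRing B] [Algebra k B] [Module.Free k B] : TF B := by
  intro n b hn h
  have h1 : (n : k) • b = 0 := by
    rw [Algebra.smul_def, map_natCast, h]
  rcases smul_eq_zero.1 h1 with h2 | h2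
  · exact absurd h2 (by exact_mod_cast hn)
  · exact h2

end tf

section cv

variable {k : Type u} [CommRing k] {O : Type u} [CommRing O] [HopfAlgebra k O]
variable {B C : Type u} [CommRing B] [Algebra k B] [CommRing C] [Algebra k C]

/-- product of points -/
noncomputable def cv (g h : O →ₐ[k] B) : O →ₐ[k] B := (productMap g h).comp (Bialgebra.comulAlgHom k O)

/-- the neutral point -/
noncomputable def cv1 : O →ₐ[k] B := (Algebra.ofId k B).comp (Bialgebra.counitAlgHom k O)

/-- value of a function of two points -/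
noncomputable def ev (w : O ⊗[k] O) (g h : O →ₐ[k] B) : B := productMap g h w

theorem cv_eq (g h : O →ₐ[k] B) : cv g h = (WithConv.toConv g * WithConv.toConv h).ofConv := by
  rw [AlgHom.convMul_def, cv, productMap_eq_comp_map, AlgHom.comp_assoc]

theorem cv1_eq : (cv1 : O →ₐ[k] B) = (1 : WithConv (O →ₐ[k] B)).ofConv := rfl

theorem cv_assoc (g h l : O →ₐ[k] B) : cv (cv g h) l = cv g (cv h l) := by
  simp only [cv_eq, WithConv.toConv_ofConv, mul_assoc]

theorem cv_one (g : O →ₐ[k] B) : cv g cv1 = g := by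
  simp only [cv_eq, cv1_eq, WithConv.toConv_ofConv, mul_one]

theorem one_cv (g : O →ₐ[k] B) : cv cv1 g = g := by
  simp only [cv_eq, cv1_eq, WithConv.toConv_ofConv, one_mul]

theorem comp_productMap (f : B →ₐ[k] C) {O' : Type u} [CommRing O'] [Algebra k O'] (g : O →ₐ[k] B)
    (h : O' →ₐ[k] B) : f.comp (productMap g h) = productMap (f.comp g) (f.comp h) := by
  ext <;> simp

theorem comp_cv (f : B →ₐ[k] C) (g h : O →ₐ[k] B) : f.comp (cv g h) = cv (f.comp g) (f.comp h) := by
  rw [cv, cv, ← AlgHom.comp_assoc, comp_productMap]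

theorem map_ev (f : B →ₐ[k] C) (w : O ⊗[k] O) (g h : O →ₐ[k] B) : f (ev w g h) = ev w (f.comp g) (f.comp h) := by
  rw [ev, ev, ← comp_productMap]; rfl

theorem comp_cv1 (f : B →ₐ[k] C) : f.comp (cv1 : O →ₐ[k] B) = cv1 := by
  ext x; simp [cv1, Algebra.ofId_apply]

end cv

/-- Input of the construction. -/
structure ExtData (k : Type u) [CommRing k] (O : Type u) [CommRing O] [HopfAlgebra k O] (σ : Type u) [Fintype σ]
    [DecidableEq σ] where
  a : σ → σ → O
  z : σ → O ⊗[k] O
  ha : ∀ (B : Type u) [CommRing B] [Algebra k B] (g h : O →ₐ[k] B) (i j : σ),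
    cv g h (a i j) = ∑ l, g (a i l) * h (a l j)
  ha1 : ∀ i j, Bialgebra.counitAlgHom k O (a i j) = if i = j then 1 else 0
  hz : ∀ (B : Type u) [CommRing B] [Algebra k B] (g h l : O →ₐ[k] B) (i : σ),
    ∑ j, g (a i j) * ev (z j) h l + ev (z i) g (cv h l) = ev (z i) (cv g h) l + ev (z i) g h
  nz : ∀ i, z i ∈ natIdeal (O ⊗[k] O)

section Ext

variable {k : Type u} [CommRing k] [IsDomain k] [CharZero k] {O : Type u} [CommRing O] [HopfAlgebra k O]
  [Module.Free k O] {σ : Type u} [Fintype σ] [DecidableEq σ]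
variable (K : Type u) [Field K] [CharZero K] [Algebra k K] [FaithfulSMul k K]
variable (D : ExtData k O σ)

variable (k O σ) in
/-- The coordinate ring of the extension. -/
abbrev EO : Type u := O ⊗[k] PD σ k K

variable (k O σ) in
/-- The projection to the group. -/
noncomputable abbrev io : O →ₐ[k] EO k O σ K := includeLeft

/-- The coordinates on the fibre. -/
noncomputable def XX (i : σ) : EO k O σ K := (includeRight : PD σ k K →ₐ[k] O ⊗[k] PD σ k K) (gen σ k K i)

variable {B : Type u} [CommRing B] [Algebra k B]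

/-- A point. -/
noncomputable def pt (hB : TF B) (g : O →ₐ[k] B) (v : σ → natIdeal B) : EO k O σ K →ₐ[k] B :=
  productMap g (lift σ k K hB v)

theorem pt_io (hB : TF B) (g : O →ₐ[k] B) (v : σ → natIdeal B) : (pt K hB g v).comp (io k O σ K) = g :=
  productMap_left _ _

theorem pt_XX (hB : TF B) (g : O →ₐ[k] B) (v : σ → natIdeal B) (i : σ) : pt K hB g v (XX K i) = v i := by
  have h : (pt K hB g v).comp (includeRight : PD σ k K →ₐ[k] O ⊗[k] PD σ k K) = lift σ k K hB v :=
    productMap_right _ _
  have := congrArg (fun f => f (gen σ k K i)) h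
  simp only [AlgHom.comp_apply] at this
  rw [XX, this, lift_gen]

omit [IsDomain k] [CharZero k] [Module.Free k O] in
theorem EO_ext (hB : TF B) {f g : EO k O σ K →ₐ[k] B} (h1 : f.comp (io k O σ K) = g.comp (io k O σ K))
    (h2 : ∀ i, f (XX K i) = g (XX K i)) : f = g := by
  apply Algebra.TensorProduct.ext h1
  exact hom_ext σ k K hB fun i => h2 i

omit [IsDomain k] [CharZero k] [Module.Free k O] [FaithfulSMul k K] in
theorem XX_mem (i : σ) : XX K i ∈ natIdeal (EO k O σ K) :=
  map_mem_natIdeal (includeRight : PD σ k K →ₐ[k] O ⊗[k] PD σ k K).toRingHom (gen_mem_natIdeal σ k K i)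

theorem ev_mem (g h : O →ₐ[k] B) (i : σ) : ev (D.z i) g h ∈ natIdeal B :=
  map_mem_natIdeal (productMap g h).toRingHom (D.nz i)

theorem tfE2 : TF (EO k O σ K ⊗[k] EO k O σ K) := tf_of_free (k := k) _
theorem tfE : TF (EO k O σ K) := tf_of_free (k := k) _

/-- comultiplication -/
noncomputable def com : EO k O σ K →ₐ[k] EO k O σ K ⊗[k] EO k O σ K :=
  pt K (tfE2 K) (cv ((includeLeft : EO k O σ K →ₐ[k] EO k O σ K ⊗[k] EO k O σ K).comp (io k O σ K))
      ((includeRight : EO k O σ K →ₐ[k] EO k O σ K ⊗[k] EO k O σ K).comp (io k O σ K)))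
    (fun i => ⟨(includeLeft : EO k O σ K →ₐ[k] EO k O σ K ⊗[k] EO k O σ K) (XX K i) +
        ∑ j, (includeLeft : EO k O σ K →ₐ[k] EO k O σ K ⊗[k] EO k O σ K) (io k O σ K (D.a i j)) *
          (includeRight : EO k O σ K →ₐ[k] EO k O σ K ⊗[k] EO k O σ K) (XX K j) -
        ev (D.z i) ((includeLeft : EO k O σ K →ₐ[k] EO k O σ K ⊗[k] EO k O σ K).comp (io k O σ K))
          ((includeRight : EO k O σ K →ₐ[k] EO k O σ K ⊗[k] EO k O σ K).comp (io k O σ K)),
      Ideal.sub_mem _ (Ideal.add_mem _ (map_mem_natIdeal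
        (includeLeft : EO k O σ K →ₐ[k] EO k O σ K ⊗[k] EO k O σ K).toRingHom (XX_mem K i))
        (Ideal.sum_mem _ fun j _ => Ideal.mul_mem_left _ _ (map_mem_natIdeal
          (includeRight : EO k O σ K →ₐ[k] EO k O σ K ⊗[k] EO k O σ K).toRingHom (XX_mem K j))))
        (ev_mem D _ _ i)⟩)

/-- product of points of the extension -/
noncomputable def mulp (f g : EO k O σ K →ₐ[k] B) : EO k O σ K →ₐ[k] B := (productMap f g).comp (com K D)

theorem mulp_io (f g : EO k O σ K →ₐ[k] B) :
    (mulp K D f g).comp (io k O σ K) = cv (f.comp (io k O σ K)) (g.comp (io k O σ K)) := by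
  rw [mulp, AlgHom.comp_assoc, com, pt_io, comp_cv, ← AlgHom.comp_assoc, ← AlgHom.comp_assoc, productMap_left,
    productMap_right]

theorem mulp_XX (f g : EO k O σ K →ₐ[k] B) (i : σ) :
    mulp K D f g (XX K i) = f (XX K i) + ∑ j, f (io k O σ K (D.a i j)) * g (XX K j) -
      ev (D.z i) (f.comp (io k O σ K)) (g.comp (io k O σ K)) := by
  rw [mulp, AlgHom.comp_apply, com, pt_XX]
  simp only [map_sub, map_add, map_sum, map_mul, map_ev]
  rw [← AlgHom.comp_assoc, ← AlgHom.comp_assoc, productMap_left, productMap_right]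
  have e1 : ∀ x, productMap f g ((includeLeft : EO k O σ K →ₐ[k] EO k O σ K ⊗[k] EO k O σ K) x) = f x := fun x =>
    AlgHom.congr_fun (productMap_left f g) x
  have e2 : ∀ x, productMap f g ((includeRight : EO k O σ K →ₐ[k] EO k O σ K ⊗[k] EO k O σ K) x) = g x := fun x =>
    AlgHom.congr_fun (productMap_right f g) x
  simp only [e1, e2]

end Ext

end Groth.Agent.ResProp.EF.K930
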