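import Groth.Agent.ResProp.EF.K930.Ext

/-!
# The Hopf algebra of the divided power extension
-/

set_option autoImplicit false
set_option maxSynthPendingDepth 6

universe u

open TensorProduct Algebra.TensorProduct

namespace Groth.Agent.ResProp.EF.K930

variable {k : Type u} [CommRing k] [IsDomain k] [CharZero k] {O : Type u} [CommRing O] [HopfAlgebra k O]
  [Module.Free k O] {σ : Type u} [Fintype σ] [DecidableEq σ]
variable (K : Type u) [Field K] [CharZero K] [Algebra k K] [FaithfulSMul k K]
variable (D : ExtData k O σ)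
variable {B : Type u} [CommRing B] [Algebra k B] {C : Type u} [CommRing C] [Algebra k C]

theorem comp_productMap' {A A' : Type u} [CommRing A] [Algebra k A] [CommRing A'] [Algebra k A'] (f : B →ₐ[k] C)
    (g : A →ₐ[k] B) (h : A' →ₐ[k] B) : f.comp (productMap g h) = productMap (f.comp g) (f.comp h) := by
  ext <;> simp

theorem comp_mulp (f : B →ₐ[k] C) (g h : EO k O σ K →ₐ[k] B) :
    f.comp (mulp K D g h) = mulp K D (f.comp g) (f.comp h) := by
  rw [mulp, mulp, ← AlgHom.comp_assoc, comp_productMap']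

theorem mulp_io_apply (f g : EO k O σ K →ₐ[k] B) (x : O) :
    mulp K D f g (io k O σ K x) = cv (f.comp (io k O σ K)) (g.comp (io k O σ K)) x := by
  rw [← mulp_io]; rfl

theorem mulp_assoc (hB : TF B) (f g h : EO k O σ K →ₐ[k] B) :
    mulp K D (mulp K D f g) h = mulp K D f (mulp K D g h) := by
  apply EO_ext K hB
  · rw [mulp_io, mulp_io, mulp_io, mulp_io, cv_assoc]
  · intro i
    rw [mulp_XX, mulp_XX, mulp_XX, mulp_io, mulp_io]
    simp only [mulp_io_apply, mulp_XX, D.ha]
    have h1 := D.hz B (f.comp (io k O σ K)) (g.comp (io k O σ K)) (h.comp (io k O σ K)) i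
    simp only [mul_add, mul_sub, Finset.sum_add_distrib, Finset.sum_sub_distrib, Finset.mul_sum, Finset.sum_mul]
    rw [Finset.sum_comm (f := fun x y => (f.comp (io k O σ K)) (D.a i y) * (g.comp (io k O σ K)) (D.a y x) * h (XX K x))]
    simp only [AlgHom.comp_apply, mul_assoc] at h1 ⊢
    linear_combination h1

theorem ev_cv1_right (f : O →ₐ[k] B) (i : σ) : ev (D.z i) f cv1 = ∑ j, f (D.a i j) * ev (D.z j) cv1 cv1 := by
  have h := D.hz B f cv1 cv1 i
  rw [cv_one, cv_one] at h
  exact (add_right_cancel h).symm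

theorem cv1_a (i j : σ) : (cv1 : O →ₐ[k] B) (D.a i j) = if i = j then 1 else 0 := by
  rw [cv1, AlgHom.comp_apply, D.ha1]
  split_ifs <;> simp

theorem ev_cv1_left (f : O →ₐ[k] B) (i : σ) : ev (D.z i) cv1 f = ev (D.z i) cv1 cv1 := by
  have h := D.hz B cv1 cv1 f i
  rw [one_cv, one_cv] at h
  simp only [cv1_a, ite_mul, one_mul, zero_mul, Finset.sum_ite_eq, Finset.mem_univ, if_true] at h
  exact add_left_cancel h

/-- the neutral point -/
noncomputable def onep (hB : TF B) : EO k O σ K →ₐ[k] B :=
  pt K hB cv1 (fun i => ⟨ev (D.z i) cv1 cv1, ev_mem D _ _ i⟩)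

theorem onep_io (hB : TF B) : (onep K D hB).comp (io k O σ K) = cv1 := pt_io _ _ _ _

theorem onep_XX (hB : TF B) (i : σ) : onep K D hB (XX K i) = ev (D.z i) cv1 cv1 := pt_XX _ _ _ _ _

theorem mulp_onep (hB : TF B) (f : EO k O σ K →ₐ[k] B) : mulp K D f (onep K D hB) = f := by
  apply EO_ext K hB
  · rw [mulp_io, onep_io, cv_one]
  · intro i
    rw [mulp_XX, onep_io, ev_cv1_right]
    simp only [onep_XX, AlgHom.comp_apply]
    ring

theorem onep_mulp (hB : TF B) (f : EO k O σ K →ₐ[k] B) : mulp K D (onep K D hB) f = f := by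
  apply EO_ext K hB
  · rw [mulp_io, onep_io, one_cv]
  · intro i
    rw [mulp_XX, onep_io, ev_cv1_left]
    have h : ∀ x, onep K D hB (io k O σ K x) = cv1 x := fun x => by rw [← onep_io K D hB]; rfl
    simp only [onep_XX, h, cv1_a, ite_mul, one_mul, zero_mul, Finset.sum_ite_eq, Finset.mem_univ, if_true]
    ring

theorem comp_onep (hB : TF B) (hC : TF C) (f : B →ₐ[k] C) : f.comp (onep K D hB) = onep K D hC := by
  apply EO_ext K hC
  · rw [AlgHom.comp_assoc, onep_io, onep_io, comp_cv1]
  · intro i
    rw [AlgHom.comp_apply, onep_XX, onep_XX, map_ev, comp_cv1]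

/-- the inverse of a point of a group -/
noncomputable def iv (f : O →ₐ[k] B) : O →ₐ[k] B := f.comp (HopfAlgebra.antipodeAlgHom k O)

theorem cv_iv (f : O →ₐ[k] B) : cv f (iv f) = cv1 := by
  have h : cv (AlgHom.id k O) (HopfAlgebra.antipodeAlgHom k O) = cv1 := by
    rw [cv_eq, cv1_eq, ← mul_inv_cancel (WithConv.toConv (AlgHom.id k O))]
    rfl
  have h2 := congrArg (fun t => f.comp t) h
  simp only [comp_cv, comp_cv1, AlgHom.comp_id] at h2
  exact h2

/-- the inverse of a point of the extension -/
noncomputable def ivp (hB : TF B) (f : EO k O σ K →ₐ[k] B) : EO k O σ K →ₐ[k] B :=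
  pt K hB (iv (f.comp (io k O σ K))) (fun j => ⟨∑ l, iv (f.comp (io k O σ K)) (D.a j l) *
    (ev (D.z l) cv1 cv1 + ev (D.z l) (f.comp (io k O σ K)) (iv (f.comp (io k O σ K))) - f (XX K l)),
    Ideal.sum_mem _ fun l _ => Ideal.mul_mem_left _ _ (Ideal.sub_mem _ (Ideal.add_mem _ (ev_mem D _ _ l)
      (ev_mem D _ _ l)) (map_mem_natIdeal f.toRingHom (XX_mem K l)))⟩)

theorem mulp_ivp (hB : TF B) (f : EO k O σ K →ₐ[k] B) : mulp K D f (ivp K D hB f) = onep K D hB := by
  apply EO_ext K hB
  · rw [mulp_io, ivp, pt_io, onep_io, cv_iv]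
  · intro i
    rw [mulp_XX, ivp, pt_io, onep_XX]
    simp only [pt_XX]
    have h : ∀ j, f (io k O σ K (D.a i j)) = (f.comp (io k O σ K)) (D.a i j) := fun j => rfl
    simp only [h, Finset.mul_sum]
    rw [Finset.sum_comm]
    simp only [← mul_assoc, ← Finset.sum_mul]
    simp only [← D.ha, cv_iv, cv1_a, ite_mul, one_mul, zero_mul, Finset.sum_ite_eq, Finset.mem_univ, if_true]
    ring

theorem ivp_mulp (hB : TF B) (f : EO k O σ K →ₐ[k] B) : mulp K D (ivp K D hB f) f = onep K D hB := by
  have h1 := mulp_ivp K D hB f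
  have h2 := mulp_ivp K D hB (ivp K D hB f)
  have h3 : ivp K D hB (ivp K D hB f) = f := by
    have := congrArg (fun t => mulp K D f t) h2
    simp only [← mulp_assoc K D hB, h1, onep_mulp, mulp_onep] at this
    exact this
  rw [h3] at h2
  exact h2

theorem productMap_self : productMap (includeLeft : EO k O σ K →ₐ[k] EO k O σ K ⊗[k] EO k O σ K) includeRight =
    AlgHom.id k _ := by
  ext <;> simp

theorem com_eq : com K D = mulp K D (includeLeft : EO k O σ K →ₐ[k] EO k O σ K ⊗[k] EO k O σ K) includeRight := by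
  rw [mulp, productMap_self, AlgHom.id_comp]

theorem tf3 : TF (EO k O σ K ⊗[k] (EO k O σ K ⊗[k] EO k O σ K)) := tf_of_free (k := k) _

theorem coassoc' : (Algebra.TensorProduct.assoc k k k (EO k O σ K) (EO k O σ K) (EO k O σ K)).toAlgHom.comp
      ((Algebra.TensorProduct.map (com K D) (.id k (EO k O σ K))).comp (com K D))
      = (Algebra.TensorProduct.map (.id k (EO k O σ K)) (com K D)).comp (com K D) := by
  have h1 : (Algebra.TensorProduct.assoc k k k (EO k O σ K) (EO k O σ K) (EO k O σ K)).toAlgHom.comp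
      ((Algebra.TensorProduct.map (com K D) (.id k (EO k O σ K))).comp (com K D)) =
      mulp K D (mulp K D includeLeft (includeRight.comp includeLeft)) (includeRight.comp includeRight) := by
    conv_lhs => rw [com_eq]
    rw [comp_mulp, comp_mulp]
    congr 1
    · rw [Algebra.TensorProduct.map_comp_includeLeft, comp_mulp, comp_mulp]
      congr 1
      all_goals (apply AlgHom.ext; intro x; simp [Algebra.TensorProduct.one_def])
    · apply AlgHom.ext; intro x; simp [Algebra.TensorProduct.one_def]
  have h2 : (Algebra.TensorProduct.map (.id k (EO k O σ K)) (com K D)).comp (com K D) =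
      mulp K D includeLeft (mulp K D (includeRight.comp includeLeft) (includeRight.comp includeRight)) := by
    conv_lhs => rw [com_eq]
    rw [comp_mulp]
    congr 1
    · rw [Algebra.TensorProduct.map_comp_includeLeft]; rfl
    · rw [Algebra.TensorProduct.map_comp_includeRight, comp_mulp]
  rw [h1, h2]
  exact mulp_assoc K D (tf3 (k := k) (O := O) (σ := σ) K) _ _ _

theorem tfk : TF k := tf_of_free (k := k) _
theorem tfl : TF (k ⊗[k] EO k O σ K) := tf_of_free (k := k) _
theorem tfr : TF (EO k O σ K ⊗[k] k) := tf_of_free (k := k) _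

theorem rT : (Algebra.TensorProduct.map (onep K D tfk) (.id k (EO k O σ K))).comp (com K D) =
    ((Algebra.TensorProduct.lid k (EO k O σ K)).symm : EO k O σ K →ₐ[k] k ⊗[k] EO k O σ K) := by
  rw [com_eq, comp_mulp, Algebra.TensorProduct.map_comp_includeLeft, Algebra.TensorProduct.map_comp_includeRight,
    comp_onep K D (tfk (k := k)) (tfl (k := k) (O := O) (σ := σ) K), onep_mulp]
  apply AlgHom.ext; intro x; simp

theorem lT : (Algebra.TensorProduct.map (.id k (EO k O σ K)) (onep K D tfk)).comp (com K D) =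
    ((Algebra.TensorProduct.rid k k (EO k O σ K)).symm : EO k O σ K →ₐ[k] EO k O σ K ⊗[k] k) := by
  rw [com_eq, comp_mulp, Algebra.TensorProduct.map_comp_includeLeft, Algebra.TensorProduct.map_comp_includeRight,
    comp_onep K D (tfk (k := k)) (tfr (k := k) (O := O) (σ := σ) K), mulp_onep]
  apply AlgHom.ext; intro x; simp

/-- the bialgebra -/
noncomputable abbrev bia : Bialgebra k (EO k O σ K) :=
  Bialgebra.ofAlgHom (com K D) (onep K D tfk) (coassoc' K D) (rT K D) (lT K D)

/-- the Hopf algebra -/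
noncomputable abbrev hopf : HopfAlgebra k (EO k O σ K) :=
  letI := bia K D
  HopfAlgebra.ofAlgHom (ivp K D (tfE K) (AlgHom.id k (EO k O σ K)))
    (by
      have h := ivp_mulp K D (tfE K) (AlgHom.id k (EO k O σ K))
      rw [← comp_onep K D tfk (tfE K) (Algebra.ofId k (EO k O σ K))] at h
      exact h)
    (by
      have h := mulp_ivp K D (tfE K) (AlgHom.id k (EO k O σ K))
      rw [← comp_onep K D tfk (tfE K) (Algebra.ofId k (EO k O σ K))] at h
      exact h)

theorem io_map : Algebra.TensorProduct.map (io k O σ K) (io k O σ K) =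
    productMap ((includeLeft : EO k O σ K →ₐ[k] EO k O σ K ⊗[k] EO k O σ K).comp (io k O σ K))
      ((includeRight : EO k O σ K →ₐ[k] EO k O σ K ⊗[k] EO k O σ K).comp (io k O σ K)) := by
  ext <;> simp [Algebra.TensorProduct.one_def]

/-- the projection as a map of bialgebras -/
noncomputable def iob : letI := hopf K D; O →ₐc[k] EO k O σ K :=
  letI := hopf K D
  BialgHom.ofAlgHom (io k O σ K) (by
      have h := onep_io K D (tfk (k := k))
      change (onep K D tfk).comp (io k O σ K) = Bialgebra.counitAlgHom k O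
      rw [h, cv1]
      apply AlgHom.ext; intro x; simp) (by
      have h := mulp_io K D (includeLeft : EO k O σ K →ₐ[k] EO k O σ K ⊗[k] EO k O σ K) includeRight
      rw [← com_eq] at h
      change (Algebra.TensorProduct.map (io k O σ K) (io k O σ K)).comp (Bialgebra.comulAlgHom k O) =
        (com K D).comp (io k O σ K)
      rw [h, cv, io_map])

end Groth.Agent.ResProp.EF.K930
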