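import Groth.Agent.ResProp.EF.K624.Final0
import Groth.Agent.ResProp.EF.K930.HasOne

/-!
# 1.5 THE KILLING LEMMA from 1.4
-/

set_option autoImplicit false

universe u

open Groth.Agent.ResProp.EF.Grp

namespace Groth.Agent.ResProp.EF.K930

/-- 1.5, from 1.4 (`KillModP`) and `RedModP`; nothing else. -/
theorem kill (p : ℕ) {k : Type u} [CommRing k] [IsLb p k] (H : Gp k) (hr : RedModP p H) (hK : KillModP p H) :
    Kill H :=
  K624.kill_of_hasOneStep p H hr hK (hasOneStep p)

end Groth.Agent.ResProp.EF.K930
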