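import Groth.Agent.ResProp.EF.K930.Br
import Groth.Agent.ResProp.EF.K930.Ext2
import Mathlib.RingTheory.Localization.FractionRing

/-!
# Existence of one step extensions (`HasOneStep`)
-/

set_option autoImplicit false
set_option maxSynthPendingDepth 6

universe u

open TensorProduct K458.Coch Groth.Agent.ResProp.EF.Grp Algebra.TensorProduct

namespace Groth.Agent.ResProp.EF.K930

section coords

variable {k : Type u} [CommRing k] {V : Type u} [AddCommGroup V] [Module k V] {σ : Type u} [Fintype σ]
  (b : Module.Basis σ k V)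
variable {B : Type u} [CommRing B] [Algebra k B] {O : Type u} [CommRing O] [Bialgebra k O]

@[simp] theorem coef1_tmul (f : V →ₗ[k] k) (v : V) (c : B) : coef1 (k := k) f (v ⊗ₜ[k] c) = f v • c := by
  simp [coef1]

theorem sum_coef1 (w : V ⊗[k] B) : ∑ i, b i ⊗ₜ[k] coef1 (k := k) (b.coord i) w = w := by
  induction w using TensorProduct.induction_on with
  | zero => simp
  | tmul v c =>
    simp only [coef1_tmul, ← TensorProduct.smul_tmul, ← TensorProduct.sum_tmul]
    simp only [Module.Basis.coord_apply, b.sum_repr]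
  | add x y hx hy =>
    conv_rhs => rw [← hx, ← hy]
    simp only [map_add, tmul_add, Finset.sum_add_distrib]

theorem coef1_ext {w w' : V ⊗[k] B} (h : ∀ i, coef1 (k := k) (b.coord i) w = coef1 (k := k) (b.coord i) w') :
    w = w' := by
  rw [← sum_coef1 b w, ← sum_coef1 b w']; simp only [h]

theorem coef1_mulB (f : V →ₗ[k] k) (w : V ⊗[k] B) (c : B) :
    coef1 (k := k) f (mulB V (w ⊗ₜ[k] c)) = coef1 (k := k) f w * c := by
  induction w using TensorProduct.induction_on with
  | zero => simp
  | tmul v d => simp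
  | add x y hx hy => simp only [map_add, add_tmul, hx, hy, add_mul]

theorem coef1_ev1 (f : V →ₗ[k] k) (g : O →ₐ[k] B) (y : V ⊗[k] O) :
    coef1 (k := k) f (ev1 g y) = g (coef1 (k := k) f y) := by
  induction y using TensorProduct.induction_on with
  | zero => simp
  | tmul v d => simp
  | add x y hx hy => simp only [map_add, hx, hy]

theorem coef1_ev2 (f : V →ₗ[k] k) (g h : O →ₐ[k] B) (z : (V ⊗[k] O) ⊗[k] O) :
    coef1 (k := k) f (ev2 g h z) = productMap g h (coef2 (k := k) f z) := by
  induction z using TensorProduct.induction_on with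
  | zero => simp
  | tmul y a =>
    rw [ev2_tmul, coef1_mulB, coef1_ev1]
    simp [coef2]
  | add x y hx hy => simp only [map_add, hx, hy]

theorem coef1_act (ρ : V →ₗ[k] V ⊗[k] O) (g : O →ₐ[k] B) (w : V ⊗[k] B) (f : V →ₗ[k] k) :
    coef1 (k := k) f (act ρ g w) =
      ∑ j, g (coef1 (k := k) f (ρ (b j))) * coef1 (k := k) (b.coord j) w := by
  conv_lhs => rw [← sum_coef1 b w]
  simp only [map_sum, act_tmul, coef1_mulB, coef1_ev1]

theorem coef1_basis [DecidableEq σ] (i j : σ) :
    coef1 (k := k) (b.coord i) (b j ⊗ₜ[k] (1 : B)) = if i = j then 1 else 0 := by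
  rw [coef1_tmul, Module.Basis.coord_apply, b.repr_self, Finsupp.single_apply]
  split_ifs with h1 h2 h2
  · simp
  · exact absurd h1.symm h2
  · exact absurd h2.symm h1
  · simp

end coords

section data

variable {k : Type u} [CommRing k] {E : Gp k} (V : GMod E) {σ : Type u} [Fintype σ] [DecidableEq σ]
  (b : Module.Basis σ k V.V)

theorem coact_dlt : (HopfRep.Comod.coact (k := k) (A := E.O) (V := V.V)).rTensor E.O ∘ₗ
      HopfRep.Comod.coact (k := k) (A := E.O) (V := V.V) =
    dlt k E.O V.V ∘ₗ HopfRep.Comod.coact (k := k) (A := E.O) (V := V.V) := by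
  have h := HopfRep.Comod.coassoc (k := k) (A := E.O) (V := V.V)
  apply LinearMap.ext
  intro v
  have h1 := LinearMap.congr_fun h v
  simp only [LinearMap.comp_apply, LinearEquiv.coe_coe, dlt] at h1 ⊢
  rw [← h1, LinearEquiv.symm_apply_apply]

/-- the data of the extension -/
noncomputable def mkD (z : V.C 2) (hz : V.d 2 z = 0) (nz : ∀ f : V.V →ₗ[k] k, IsNat (coef2 (k := k) (A := E.O) f z)) :
    ExtData k E.O σ where
  a i j := coef1 (k := k) (b.coord i) (HopfRep.Comod.coact (k := k) (A := E.O) (b j))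
  z i := coef2 (k := k) (b.coord i) z
  ha := by
    intro B _ _ g h i j
    have h1 := congrArg (coef1 (k := k) (b.coord i)) (act_conv (coact_dlt V) g h (b j ⊗ₜ[k] (1 : B)))
    simp only [coef1_act b, coef1_basis, mul_ite, mul_one, mul_zero, Finset.sum_ite_eq', Finset.mem_univ,
      if_true] at h1
    exact h1
  ha1 := by
    intro i j
    have h1 := congrArg (coef1 (k := k) (b.coord i)) (act_unit (B := k)
      (HopfRep.Comod.counit_comp (k := k) (A := E.O) (V := V.V)) (b j ⊗ₜ[k] (1 : k)))
    simp only [coef1_act b, coef1_basis, mul_ite, mul_one, mul_zero, Finset.sum_ite_eq', Finset.mem_univ,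
      if_true] at h1
    exact h1
  hz := by
    intro B _ _ g h l i
    have h1 := ev3_d2 (HopfRep.Comod.coact (k := k) (A := E.O) (V := V.V)) g h l z
    have h2 : d2 (HopfRep.Comod.coact (k := k) (A := E.O) (V := V.V)) z = 0 := by
      rw [← hoch_d2]; exact hz
    rw [h2, map_zero] at h1
    have h3 := congrArg (coef1 (k := k) (b.coord i)) h1
    simp only [map_sub, map_add, coef1_act b, coef1_ev2, map_zero] at h3
    simp only [ev]
    have h4 : ∀ g h : E.O →ₐ[k] B, conv g h = cv g h := fun _ _ => rfl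
    simp only [h4] at h3
    linear_combination -h3
  nz i := nz (b.coord i)

end data

section main

variable {k : Type u} [CommRing k] [IsDomain k] [CharZero k] {E : Gp k} {σ : Type u} [Fintype σ] [DecidableEq σ]
variable (K : Type u) [Field K] [CharZero K] [Algebra k K] [FaithfulSMul k K]

/-- the group `E'` -/
noncomputable def EE (D : ExtData k E.O σ) : Gp k where
  O := EO k E.O σ K
  cr := inferInstance
  ha := hopf K D
  fr := inferInstanceAs (Module.Free k (EO k E.O σ K))

variable (D : ExtData k E.O σ) (V : GMod E) (b : Module.Basis σ k V.V)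

/-- the map `E' → E` -/
noncomputable def iE : E.O →ₐc[k] (EE K D).O := iob K D

/-- the coordinates -/
noncomputable def XE (i : σ) : (EE K D).O := XX K i

/-- the tautological cochain -/
noncomputable def xE : V.V ⊗[k] (EE K D).O := ∑ i, b i ⊗ₜ[k] XE K D i

theorem coef1_xE (i : σ) : coef1 (k := k) (b.coord i) (xE K D V b) = XE K D i := by
  simp only [xE, map_sum, coef1_tmul, Module.Basis.coord_apply, b.repr_self]
  rw [Finset.sum_eq_single i]
  · simp
  · intro j _ hj
    rw [Finsupp.single_apply, if_neg hj, zero_smul]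
  · intro h; exact absurd (Finset.mem_univ i) h

theorem conv_EE (y : (EE K D).O) : conv (includeLeft : (EE K D).O →ₐ[k] (EE K D).O ⊗[k] (EE K D).O) includeRight y =
    Coalgebra.comul (R := k) y := by
  have h : (Algebra.TensorProduct.lift (includeLeft : (EE K D).O →ₐ[k] (EE K D).O ⊗[k] (EE K D).O) includeRight
    fun _ _ => Commute.all _ _) = AlgHom.id k _ := by
    ext x <;> simp
  rw [conv, h]
  rfl

theorem comul_XE (i : σ) : Coalgebra.comul (R := k) (XE K D i) =
    (includeLeft : (EE K D).O →ₐ[k] (EE K D).O ⊗[k] (EE K D).O) (XE K D i) +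
      ∑ j, (includeLeft : (EE K D).O →ₐ[k] (EE K D).O ⊗[k] (EE K D).O) (iE K D (D.a i j)) *
        (includeRight : (EE K D).O →ₐ[k] (EE K D).O ⊗[k] (EE K D).O) (XE K D j) -
      productMap ((includeLeft : (EE K D).O →ₐ[k] (EE K D).O ⊗[k] (EE K D).O).comp (iE K D : E.O →ₐ[k] (EE K D).O))
        ((includeRight : (EE K D).O →ₐ[k] (EE K D).O ⊗[k] (EE K D).O).comp (iE K D : E.O →ₐ[k] (EE K D).O))
        (D.z i) := by
  have h := mulp_XX K D (includeLeft : EO k E.O σ K →ₐ[k] EO k E.O σ K ⊗[k] EO k E.O σ K) includeRight i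
  rw [← com_eq] at h
  exact h

/-- points of `E'` -/
theorem exists_pt {R : Type u} [CommRing R] [Algebra k R] (hR : TF R) (g : E.O →ₐ[k] R) (v : σ → R)
    (hv : ∀ i, v i ∈ natIdeal R) : ∃ h : (EE K D).O →ₐ[k] R, h.comp (iE K D : E.O →ₐ[k] (EE K D).O) = g ∧
      ∀ i, h (XE K D i) = v i :=
  ⟨pt (O := E.O) K hR g (fun i => ⟨v i, hv i⟩), pt_io (O := E.O) K hR g (fun i => ⟨v i, hv i⟩),
    pt_XX (O := E.O) K hR g (fun i => ⟨v i, hv i⟩)⟩

theorem pt_unique {R : Type u} [CommRing R] [Algebra k R] (hR : TF R) (f g : (EE K D).O →ₐ[k] R)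
    (h1 : f.comp (iE K D : E.O →ₐ[k] (EE K D).O) = g.comp (iE K D : E.O →ₐ[k] (EE K D).O))
    (h2 : ∀ i, f (XE K D i) = g (XE K D i)) : f = g :=
  EO_ext (O := E.O) K hR h1 h2

end main

end Groth.Agent.ResProp.EF.K930
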